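import Cfsg.Agent.H40.Klein.Model

/-!
A self-centralising `3²` with Klein automiser has normaliser `S₃ × S₃`.
-/

set_option autoImplicit false

namespace Cfsg.Agent.H40.Klein

universe u

variable {G : Type u} [Group G]

/-- The homomorphism from `D₃` given by an element of order three and an inverting involution. -/
def dihHom (a t : G) (ha : a ^ 3 = 1) (ht : t * t = 1) (hinv : t * a * t⁻¹ = a⁻¹) :
    DihedralGroup 3 →* G where
  toFun
    | .r i => a ^ i.val
    | .sr i => t * a ^ i.val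
  map_one' := by show a ^ (0 : ZMod 3).val = 1; simp
  map_mul' := by
    have hadd : ∀ i j : ZMod 3, a ^ (i + j).val = a ^ i.val * a ^ j.val := fun i j => by
      rw [ZMod.val_add, ← pow_eq_pow_mod _ ha, pow_add]
    have hsub : ∀ i j : ZMod 3, a ^ (j - i).val = (a ^ i.val)⁻¹ * a ^ j.val := fun i j => by
      rw [eq_inv_mul_iff_mul_eq, ← hadd, add_sub_cancel]
    have hmove : ∀ i : ℕ, a ^ i * t = t * (a ^ i)⁻¹ := fun i => by
      have h : t * (a ^ i) * t⁻¹ = (a ^ i)⁻¹ := by rw [← conj_pow, hinv, inv_pow]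
      calc a ^ i * t = t * (t⁻¹ * a ^ i * t) := by group
        _ = t * (t * a ^ i * t⁻¹) := by rw [inv_eq_of_mul_eq_one_right ht]
        _ = t * (a ^ i)⁻¹ := by rw [h]
    rintro (i | i) (j | j)
    · exact hadd i j
    · show t * a ^ (j - i).val = a ^ i.val * (t * a ^ j.val)
      rw [← mul_assoc, hmove, hsub, mul_assoc]
    · show t * a ^ (i + j).val = t * a ^ i.val * a ^ j.val
      rw [hadd, mul_assoc]
    · show a ^ (j - i).val = t * a ^ i.val * (t * a ^ j.val)
      rw [mul_assoc t, ← mul_assoc (a ^ i.val), hmove, hsub, ← mul_assoc t, ← mul_assoc t, ht, one_mul]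

theorem exists_iso [Finite G] (T : Subgroup G) (hT9 : Nat.card T = 9)
    (hT3 : ∀ x ∈ T, x ^ 3 = 1) (hcomm : ∀ x ∈ T, ∀ y ∈ T, x * y = y * x)
    (hCT : Subgroup.centralizer (T : Set G) = T) (N : Subgroup G) (hTN : T ≤ N)
    (hnorm : ∀ g ∈ N, ∀ x ∈ T, g * x * g⁻¹ ∈ T) (hN36 : Nat.card N = 36)
    (hsq : ∀ g ∈ N, g * g ∈ T) :
    ∃ f : K →* G, Function.Injective f ∧ f.range = N := by
  haveI : Fact (Nat.Prime 2) := ⟨Nat.prime_two⟩
  obtain ⟨S⟩ : Nonempty (Sylow 2 N) := inferInstance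
  have hS4 : Nat.card (S : Subgroup N) = 4 := by
    rw [S.card_eq_multiplicity, hN36, show (36 : ℕ) = 2 ^ 2 * 3 ^ 2 by norm_num,
      Nat.factorization_mul (by norm_num) (by norm_num), Nat.Prime.factorization_pow Nat.prime_two,
      Nat.Prime.factorization_pow Nat.prime_three]
    simp
  let ι : (S : Subgroup N) →* G := N.subtype.comp (S : Subgroup N).subtype
  have hι : Function.Injective ι := fun x y h => Subtype.ext (Subtype.ext h)
  have hιN : ∀ x, ι x ∈ N := fun x => x.1.2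
  have hιT : ∀ x, ι x ∈ T → x = 1 := by
    intro x hx
    refine hι ?_
    rw [map_one]
    have h4 : ι x ^ 4 = 1 := by rw [← map_pow, ← hS4, pow_card_eq_one', map_one]
    calc ι x = ι x ^ 4 * (ι x ^ 3)⁻¹ := by group
      _ = 1 := by rw [h4, hT3 _ hx]; simp
  have hι2 : ∀ x, ι x * ι x = 1 := by
    intro x
    have h : x * x = 1 := hιT _ (by rw [map_mul]; exact hsq _ (hιN x))
    rw [← map_mul, h, map_one]
  have hιinv : ∀ x, (ι x)⁻¹ = ι x := fun x => inv_eq_of_mul_eq_one_right (hι2 x)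
  have hcent : ∀ g ∈ N, (∀ x ∈ T, g * x * g⁻¹ = x) → g ∈ T := by
    intro g _ h
    rw [← hCT, Subgroup.mem_centralizer_iff]
    exact fun x hx => (mul_inv_eq_iff_eq_mul.mp (h x hx)).symm
  have hneg : ∀ x, (∀ m ∈ T, m ≠ 1 → ι x * m * (ι x)⁻¹ ≠ m) → ∀ m ∈ T, ι x * m * (ι x)⁻¹ = m⁻¹ := by
    intro x hx m hm
    have hcm := hnorm _ (hιN x) m hm
    have hd : ι x * (m * (ι x * m * (ι x)⁻¹)) * (ι x)⁻¹ = m * (ι x * m * (ι x)⁻¹) := by
      calc ι x * (m * (ι x * m * (ι x)⁻¹)) * (ι x)⁻¹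
          = (ι x * m * (ι x)⁻¹) * ((ι x * ι x) * m * (ι x * ι x)⁻¹) := by group
        _ = (ι x * m * (ι x)⁻¹) * m := by rw [hι2, inv_one, one_mul, mul_one]
        _ = m * (ι x * m * (ι x)⁻¹) := hcomm _ hcm _ hm
    have h1 : m * (ι x * m * (ι x)⁻¹) = 1 := by
      by_contra hne
      exact hx _ (mul_mem hm hcm) hne hd
    exact eq_inv_of_mul_eq_one_right h1
  classical
  haveI := Fintype.ofFinite (S : Subgroup N)
  obtain ⟨x0, hx01, a, haT, ha1, hxa⟩ : ∃ x0, x0 ≠ 1 ∧ ∃ a ∈ T, a ≠ 1 ∧ ι x0 * a * (ι x0)⁻¹ = a := by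
    by_contra hc
    push_neg at hc
    obtain ⟨x, hx⟩ : ∃ x : (S : Subgroup N), x ≠ 1 :=
      Fintype.exists_ne_of_one_lt_card (by rw [← Nat.card_eq_fintype_card, hS4]; norm_num) 1
    obtain ⟨y, -, hy⟩ := Finset.exists_mem_notMem_of_card_lt_card
      (s := ({1, x} : Finset (S : Subgroup N))) (t := Finset.univ) (by
        rw [Finset.card_univ, ← Nat.card_eq_fintype_card, hS4]
        exact lt_of_le_of_lt (Finset.card_le_two) (by norm_num))
    simp only [Finset.mem_insert, Finset.mem_singleton, not_or] at hy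
    have hxy : ι (x * y) ∈ T := hcent _ (hιN _) fun m hm => by
      rw [map_mul]
      calc ι x * ι y * m * (ι x * ι y)⁻¹ = ι x * (ι y * m * (ι y)⁻¹) * (ι x)⁻¹ := by group
        _ = m := by
          rw [hneg y (hc y hy.1) m hm, ← conj_inv, hneg x (hc x hx) m hm, inv_inv]
    have := eq_inv_of_mul_eq_one_right (hιT _ hxy)
    refine hy.2 (this.trans ?_)
    exact hι (by rw [map_inv, hιinv])
  set t := ι x0 with htdef
  have ht2 : t * t = 1 := hι2 x0
  -- an element inverted by `t`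
  obtain ⟨b, hbT, hb1, htb⟩ : ∃ b ∈ T, b ≠ 1 ∧ t * b * t⁻¹ = b⁻¹ := by
    by_contra hc
    push_neg at hc
    refine hx01 (hιT x0 (hcent _ (hιN x0) fun m hm => ?_))
    have hcm := hnorm _ (hιN x0) m hm
    by_contra hne
    refine hc (t * m * t⁻¹ * m⁻¹) (mul_mem hcm (inv_mem hm)) (mt mul_inv_eq_one.mp hne) ?_
    have hti : t⁻¹ = t := hιinv x0
    calc t * (t * m * t⁻¹ * m⁻¹) * t⁻¹ = (t * t) * m * (t⁻¹ * m⁻¹ * t⁻¹) := by group
      _ = m * (t * m⁻¹ * t⁻¹) := by rw [ht2, one_mul, hti]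
      _ = (t * m * t⁻¹ * m⁻¹)⁻¹ := by group
  have hoa : orderOf a = 3 := orderOf_eq_prime (hT3 a haT) ha1
  have hob : orderOf b = 3 := orderOf_eq_prime (hT3 b hbT) hb1
  -- every element of `T` is `aⁱ bʲ`
  have hspan : ∀ m ∈ T, ∃ i j : ℕ, m = a ^ i * b ^ j := by
    have hinj : Function.Injective (fun p : Fin 3 × Fin 3 =>
        (⟨a ^ p.1.val * b ^ p.2.val, mul_mem (pow_mem haT _) (pow_mem hbT _)⟩ : T)) := by
      rintro ⟨i, j⟩ ⟨i', j'⟩ h
      have h1 : a ^ i.val * b ^ j.val = a ^ i'.val * b ^ j'.val := congrArg Subtype.val h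
      have h2 : a ^ i.val * (b⁻¹) ^ j.val = a ^ i'.val * (b⁻¹) ^ j'.val := by
        have h2 := congrArg (fun z => t * z * t⁻¹) h1
        simp only [← conj_mul, ← conj_pow, hxa, htb] at h2
        exact h2
      have hm : ∀ i j : ℕ, a ^ i * b ^ j * (a ^ i * (b⁻¹) ^ j) = a ^ (i + i) := fun i j => by
        rw [mul_assoc, ← mul_assoc (b ^ j), hcomm _ (pow_mem hbT j) _ (pow_mem haT i), mul_assoc,
          inv_pow, mul_inv_cancel, mul_one, pow_add]
      have h3 : a ^ (i.val + i.val) = a ^ (i'.val + i'.val) := by rw [← hm _ j, ← hm _ j', h1, h2]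
      have hi : i = i' := by
        rw [pow_eq_pow_iff_modEq, hoa, Nat.ModEq] at h3
        have := i.isLt; have := i'.isLt
        exact Fin.ext (by omega)
      subst hi
      have h4 : b ^ j.val = b ^ j'.val := mul_left_cancel h1
      rw [pow_eq_pow_iff_modEq, hob, Nat.ModEq] at h4
      have := j.isLt; have := j'.isLt
      exact Prod.ext rfl (Fin.ext (by show j.val = j'.val; omega))
    intro m hm
    haveI := Fintype.ofFinite T
    have hb := (Fintype.bijective_iff_injective_and_card _).mpr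
      ⟨hinj, by simp [← Nat.card_eq_fintype_card, hT9, Nat.card_fin]⟩
    obtain ⟨p, hp⟩ := hb.2 ⟨m, hm⟩
    exact ⟨p.1.val, p.2.val, (congrArg Subtype.val hp).symm⟩
  -- a second involution
  obtain ⟨y, -, hy⟩ := Finset.exists_mem_notMem_of_card_lt_card
      (s := ({1, x0} : Finset (S : Subgroup N))) (t := Finset.univ) (by
        rw [Finset.card_univ, ← Nat.card_eq_fintype_card, hS4]
        exact lt_of_le_of_lt (Finset.card_le_two) (by norm_num))
  simp only [Finset.mem_insert, Finset.mem_singleton, not_or] at hy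
  have hty : t * ι y = ι y * t := by
    have h := hι2 (x0 * y)
    rw [map_mul] at h
    calc t * ι y = (t * ι y)⁻¹ := (inv_eq_of_mul_eq_one_right h).symm
      _ = ι y * t := by rw [mul_inv_rev, hιinv, htdef, hιinv]
  have hconjy : ∀ m, t * (ι y * m * (ι y)⁻¹) * t⁻¹ = ι y * (t * m * t⁻¹) * (ι y)⁻¹ := fun m => by
    calc t * (ι y * m * (ι y)⁻¹) * t⁻¹ = t * ι y * m * (t * ι y)⁻¹ := by group
      _ = ι y * t * m * (ι y * t)⁻¹ := by rw [hty]
      _ = _ := by group
  have hya : ι y * a * (ι y)⁻¹ = a ∨ ι y * a * (ι y)⁻¹ = a⁻¹ := by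
    obtain ⟨i, j, hij⟩ := hspan _ (hnorm _ (hιN y) a haT)
    have h := hconjy a
    rw [hxa, hij, ← conj_mul, ← conj_pow, ← conj_pow, hxa, htb] at h
    have hj : b ^ j = 1 := by
      have h' := mul_left_cancel h
      rw [inv_pow, inv_eq_iff_mul_eq_one, ← pow_add] at h'
      have := orderOf_dvd_of_pow_eq_one h'
      rw [hob] at this
      exact orderOf_dvd_iff_pow_eq_one.mp (hob ▸ (by omega : 3 ∣ j))
    rw [hj, mul_one] at hij
    have hi : i % 3 = 0 ∨ i % 3 = 1 ∨ i % 3 = 2 := by omega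
    rw [pow_eq_pow_mod i (hT3 a haT)] at hij
    rcases hi with hi | hi | hi <;> rw [hi] at hij
    · rw [pow_zero, conj_eq_one_iff] at hij; exact absurd hij ha1
    · exact Or.inl (by rw [hij, pow_one])
    · right; rw [hij]
      exact eq_inv_of_mul_eq_one_left (by rw [← pow_succ]; exact hT3 a haT)
  have hyb : ι y * b * (ι y)⁻¹ = b ∨ ι y * b * (ι y)⁻¹ = b⁻¹ := by
    obtain ⟨i, j, hij⟩ := hspan _ (hnorm _ (hιN y) b hbT)
    have h := hconjy b
    rw [htb, ← conj_inv, hij, ← conj_mul, ← conj_pow, ← conj_pow, hxa, htb, mul_inv_rev,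
      hcomm _ (inv_mem (pow_mem hbT j)) _ (inv_mem (pow_mem haT i)), inv_pow] at h
    have hi : a ^ i = 1 := by
      have h' := mul_right_cancel h
      rw [← mul_eq_one_iff_eq_inv, ← pow_add] at h'
      have := orderOf_dvd_of_pow_eq_one h'
      rw [hoa] at this
      exact orderOf_dvd_iff_pow_eq_one.mp (hoa ▸ (by omega : 3 ∣ i))
    rw [hi, one_mul] at hij
    have hi : j % 3 = 0 ∨ j % 3 = 1 ∨ j % 3 = 2 := by omega
    rw [pow_eq_pow_mod j (hT3 b hbT)] at hij
    rcases hi with hi | hi | hi <;> rw [hi] at hij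
    · rw [pow_zero, conj_eq_one_iff] at hij; exact absurd hij hb1
    · exact Or.inl (by rw [hij, pow_one])
    · right; rw [hij]
      exact eq_inv_of_mul_eq_one_left (by rw [← pow_succ]; exact hT3 b hbT)
  have hfix : ∀ z, ι z * a * (ι z)⁻¹ = a → ι z * b * (ι z)⁻¹ = b → z = 1 := fun z h1 h2 =>
    hιT z (hcent _ (hιN z) fun m hm => by
      obtain ⟨i, j, rfl⟩ := hspan m hm
      rw [← conj_mul, ← conj_pow, ← conj_pow, h1, h2])
  have hmulc : ∀ p q m : G, p * q * m * (p * q)⁻¹ = p * (q * m * q⁻¹) * p⁻¹ := fun p q m => by group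
  obtain ⟨x1, hsa, hsb⟩ : ∃ x1, ι x1 * a * (ι x1)⁻¹ = a⁻¹ ∧ ι x1 * b * (ι x1)⁻¹ = b := by
    rcases hya with h1 | h1 <;> rcases hyb with h2 | h2
    · exact absurd (hfix y h1 h2) hy.1
    · exfalso
      have h := hfix (x0 * y) (by rw [map_mul, hmulc, h1, ← htdef, hxa])
        (by rw [map_mul, hmulc, h2, ← conj_inv, ← htdef, htb, inv_inv])
      exact hy.2 ((eq_inv_of_mul_eq_one_right h).trans (hι (by rw [map_inv, hιinv])))
    · exact ⟨y, h1, h2⟩
    · exact ⟨x0 * y, by rw [map_mul, hmulc, h1, ← conj_inv, ← htdef, hxa],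
        by rw [map_mul, hmulc, h2, ← conj_inv, ← htdef, htb, inv_inv]⟩
  set w := ι x1
  let fa := dihHom a w (hT3 a haT) (hι2 x1) hsa
  let fb := dihHom b t (hT3 b hbT) ht2 htb
  have hc : ∀ p q, Commute (fa p) (fb q) := by
    have hab : Commute a b := hcomm a haT b hbT
    have hat : Commute a t := ((mul_inv_eq_iff_eq_mul.mp hxa)).symm
    have hwb : Commute w b := mul_inv_eq_iff_eq_mul.mp hsb
    have hwt : Commute w t := by
      have h := hι2 (x1 * x0)
      rw [map_mul] at h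
      show w * t = t * w
      calc w * t = (w * t)⁻¹ := (inv_eq_of_mul_eq_one_right h).symm
        _ = t * w := by rw [mul_inv_rev, hιinv, htdef, hιinv]
    rintro (i | i) (j | j)
    · exact hab.pow_pow _ _
    · exact (hat.pow_left _).mul_right (hab.pow_pow _ _)
    · exact (hwb.pow_right _).mul_left (hab.pow_pow _ _)
    · exact ((hwt.mul_left (hat.pow_left _))).mul_right
        ((hwb.pow_right _).mul_left (hab.pow_pow _ _))
  let f : K →* G := MonoidHom.noncommCoprod fa fb hc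
  have hf : ∀ p q, f (p, q) = fa p * fb q := fun p q => rfl
  have hfN : f.range ≤ N := by
    rintro _ ⟨⟨p, q⟩, rfl⟩
    rw [hf]
    refine mul_mem ?_ ?_
    · rcases p with i | i
      exacts [pow_mem (hTN haT) _, mul_mem (hιN _) (pow_mem (hTN haT) _)]
    · rcases q with i | i
      exacts [pow_mem (hTN hbT) _, mul_mem (hιN _) (pow_mem (hTN hbT) _)]
  have hTr : T ≤ f.range := by
    intro m hm
    obtain ⟨i, j, rfl⟩ := hspan m hm
    have ha' : a ∈ f.range := ⟨(DihedralGroup.r 1, 1), by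
      rw [hf, map_one, mul_one]
      show a ^ (1 : ZMod 3).val = a
      rw [ZMod.val_one, pow_one]⟩
    have hb' : b ∈ f.range := ⟨(1, DihedralGroup.r 1), by
      rw [hf, map_one, one_mul]
      show b ^ (1 : ZMod 3).val = b
      rw [ZMod.val_one, pow_one]⟩
    exact mul_mem (pow_mem ha' _) (pow_mem hb' _)
  have hcardK : Nat.card K = 36 := by rw [Nat.card_eq_fintype_card, card_K]
  have hr : Nat.card f.range = 36 := by
    have h9 : 9 ∣ Nat.card f.range := hT9 ▸ Subgroup.card_dvd_of_le hTr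
    have hdv : Nat.card f.range ∣ 36 := hN36 ▸ Subgroup.card_dvd_of_le hfN
    have hw : w ∈ f.range := ⟨(DihedralGroup.sr 0, 1), by
      rw [hf, map_one, mul_one]
      show w * a ^ (0 : ZMod 3).val = w
      simp⟩
    have ht' : t ∈ f.range := ⟨(1, DihedralGroup.sr 0), by
      rw [hf, map_one, one_mul]
      show t * b ^ (0 : ZMod 3).val = t
      simp⟩
    -- the images of `1, w, t, wt` are distinct modulo `T`
    let F : Fin 2 × Fin 2 → (S : Subgroup N) := fun p => x1 ^ p.1.val * x0 ^ p.2.val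
    have hx1 : x1 ≠ 1 := fun h => by
      rw [show w = 1 by simp [w, h], one_mul, inv_one, mul_one] at hsa
      have : a ^ 2 = 1 := by rw [sq]; nth_rewrite 2 [hsa]; exact mul_inv_cancel a
      exact ha1 (by rw [← hT3 a haT, pow_succ, this, one_mul])
    have hne : x1 ≠ x0 := fun h => by
      rw [show w = t by simp [w, t, h], htb] at hsb
      have : b ^ 2 = 1 := by rw [sq]; nth_rewrite 1 [← hsb]; exact inv_mul_cancel b
      exact hb1 (by rw [← hT3 b hbT, pow_succ, this, one_mul])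
    have hFinj : Function.Injective F := by
      have hpr : x1 * x0 ≠ 1 := fun h => hne ((eq_inv_of_mul_eq_one_left h).trans
        (hι (by rw [map_inv, hιinv])))
      rintro ⟨i, j⟩ ⟨i', j'⟩ h
      fin_cases i <;> fin_cases j <;> fin_cases i' <;> fin_cases j' <;>
        simp [F, hx1, hx01, hne, hne.symm, hpr, hpr.symm, hx1.symm, hx01.symm] at h ⊢
    let P := ((f.range).comap ι)
    have hP : P = ⊤ := by
      refine Subgroup.eq_top_of_le_card _ ?_
      rw [hS4]
      have hmem : ∀ p, F p ∈ P := fun p => mul_mem (pow_mem (Subgroup.mem_comap.mpr hw) _)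
        (pow_mem (Subgroup.mem_comap.mpr ht') _)
      simpa [Nat.card_eq_fintype_card] using
        Nat.card_le_card_of_injective (fun p => (⟨F p, hmem p⟩ : P))
          (fun p q h => hFinj (congrArg Subtype.val h))
    have h4 : 4 ∣ Nat.card f.range := by
      have : ι.range ≤ f.range := by
        rintro _ ⟨z, rfl⟩
        exact Subgroup.mem_comap.mp (hP ▸ Subgroup.mem_top z : z ∈ P)
      have h := Subgroup.card_dvd_of_le this
      rwa [← Nat.card_congr (MonoidHom.ofInjective hι).toEquiv, hS4] at h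
    exact Nat.dvd_antisymm hdv (Nat.Coprime.mul_dvd_of_dvd_of_dvd (m := 4) (n := 9) (by norm_num) h4 h9)
  refine ⟨f, ?_, Subgroup.eq_of_le_of_card_ge hfN (by rw [hr, hN36])⟩
  haveI := Fintype.ofFinite f.range
  have := (Fintype.bijective_iff_surjective_and_card f.rangeRestrict).mpr
    ⟨f.rangeRestrict_surjective, by rw [← Nat.card_eq_fintype_card, ← Nat.card_eq_fintype_card,
      hr, hcardK]⟩
  exact fun p q h => this.1 (Subtype.ext h)

end Cfsg.Agent.H40.Klein
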