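import Cfsg.Agent.S3331
import Cfsg.Agent.S0253
import Cfsg.Agent.S0265
import Cfsg.Agent.S0813
import Cfsg.Agent.Lib.Coprime.Generation
import Cfsg.Agent.Lib.Thompson.Cores

/-!
A normal subgroup meeting `T ≅ 3²` in order three forces `T` to be normal.
-/

set_option autoImplicit false

namespace Cfsg.Agent.H40.Klein

universe u

instance : Fact (Nat.Prime 5) := ⟨by norm_num⟩
instance : Fact (Nat.Prime 7) := ⟨by norm_num⟩

theorem card_sl_two_five : Nat.card (Matrix.SpecialLinearGroup (Fin 2) (ZMod 5)) = 120 := by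
  rw [LinearGroup.card_SL_two, Nat.card_zmod]
  norm_num

theorem card_sl_two_seven : Nat.card (Matrix.SpecialLinearGroup (Fin 2) (ZMod 7)) = 336 := by
  rw [LinearGroup.card_SL_two, Nat.card_zmod]
  norm_num

variable {G : Type u} [Group G] [Finite G]

theorem normal_of_kernel (T : Subgroup G) (hT9 : Nat.card T = 9) (hT3 : ∀ x ∈ T, x ^ 3 = 1)
    (hcomm : ∀ x ∈ T, ∀ y ∈ T, x * y = y * x)
    (hCT : Subgroup.centralizer (T : Set G) = T)
    (N : Subgroup G) (hN : Subgroup.normalizer (T : Set G) = N)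
    (hN36 : Nat.card N = 36) (hcube : ∀ x ∈ N, x ^ 3 = 1 → x ∈ T)
    (hC : ∀ t ∈ T, t ≠ 1 → Subgroup.centralizer ({t} : Set G) ≤ N)
    (M : Subgroup G) [M.Normal] (hMT : Nat.card (T ⊓ M : Subgroup G) = 3)
    (hself : ∀ x ∈ M, x ∈ N → (∀ y ∈ T ⊓ M, x * y = y * x) → x ^ 3 = 1) :
    N = ⊤ := by
  classical
  haveI h3 : Fact (Nat.Prime 3) := ⟨Nat.prime_three⟩
  have hTN : T ≤ N := hN ▸ Subgroup.le_normalizer
  haveI : IsMulCommutative T := ⟨⟨fun a b => Subtype.ext (hcomm _ a.2 _ b.2)⟩⟩
  have hcyc : ¬ IsCyclic T := by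
    intro hc
    obtain ⟨x, hx⟩ := hc.exists_generator
    have h9 : orderOf x = 9 := (orderOf_eq_card_of_forall_mem_zpowers hx).trans hT9
    have := orderOf_dvd_of_pow_eq_one (show x ^ 3 = 1 from Subtype.ext (hT3 x x.2))
    rw [h9] at this
    norm_num at this
  set B := T ⊓ M
  obtain ⟨b, hb⟩ := exists_prime_orderOf_dvd_card' 3 (dvd_of_eq hMT.symm)
  have hb1 : (b : G) ≠ 1 := fun h => by
    rw [show b = 1 from Subtype.ext h, orderOf_one] at hb; norm_num at hb
  let X : Subgroup M := B.subgroupOf M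
  have hX : Nat.card X = 3 := by
    rw [Nat.card_congr (Subgroup.subgroupOfEquivOfLe (inf_le_right : B ≤ M)).toEquiv, hMT]
  have hXC : Subgroup.centralizer (X : Set M) = X := by
    refine le_antisymm (fun x hx => ?_) ?_
    · have hc : ∀ y ∈ B, (x : G) * y = y * x := fun y hy =>
        (congrArg Subtype.val (Subgroup.mem_centralizer_iff.mp hx ⟨y, hy.2⟩
          (Subgroup.mem_subgroupOf.mpr hy))).symm
      have hxN : (x : G) ∈ N := hC _ b.2.1 hb1 (by
        rw [Subgroup.mem_centralizer_singleton_iff]; exact hc _ b.2)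
      exact Subgroup.mem_subgroupOf.mpr ⟨hcube _ hxN (hself _ x.2 hxN hc), x.2⟩
    · intro x hx
      rw [Subgroup.mem_centralizer_iff]
      exact fun y hy => Subtype.ext
        (hcomm _ (Subgroup.mem_subgroupOf.mp hy).1 _ (Subgroup.mem_subgroupOf.mp hx).1)
  -- the `3'`-core is trivial
  set O := Cfsg.pPrimeCore 3 G
  have hO3 : (Nat.card O).Coprime 3 := Thompson.card_pPrimeCore_coprime
  haveI hOn : O.Normal := Thompson.instPPrimeCoreNormal
  have hONH : O ≤ N := by
    refine Coprime.le_of_centralizer_le T O N hcyc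
      (fun x _ => by rw [Subgroup.normalizer_eq_top]; trivial) ?_
      fun t ht ht1 => inf_le_right.trans (hC t ht ht1)
    rw [hT9, show (9 : ℕ) = 3 ^ 2 by norm_num]
    exact hO3.symm.pow_left 2
  have hObot : O = ⊥ := by
    have hinf : ∀ x ∈ T, x ∈ O → x = 1 := by
      intro x hx hxO
      rw [← orderOf_eq_one_iff]
      have h1 : orderOf x ∣ 3 := orderOf_dvd_of_pow_eq_one (hT3 x hx)
      have h2 : orderOf x ∣ Nat.card O :=
        Subgroup.orderOf_mk x hxO ▸ orderOf_dvd_natCard (⟨x, hxO⟩ : O)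
      exact Nat.dvd_one.mp (hO3 ▸ Nat.dvd_gcd h2 h1)
    refine (Subgroup.eq_bot_iff_forall _).mpr fun x hx => hinf x ?_ hx
    rw [← hCT, Subgroup.mem_centralizer_iff]
    intro y hy
    have hxn : x ∈ Subgroup.normalizer (T : Set G) := hN.symm ▸ hONH hx
    have h1 : y * x * y⁻¹ * x⁻¹ = 1 := hinf _ (by
      rw [show y * x * y⁻¹ * x⁻¹ = y * (x * y⁻¹ * x⁻¹) by group]
      exact mul_mem hy ((Subgroup.mem_normalizer_iff.mp hxn y⁻¹).mp (inv_mem hy)))
      (mul_mem (hOn.conj_mem x hx y) (inv_mem hx))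
    exact mul_inv_eq_iff_eq_mul.mp (mul_inv_eq_one.mp h1)
  have hsmall : ∀ K : Subgroup M, K.Normal → (Nat.card K).Coprime 3 → K = ⊥ := by
    intro K hK hcop
    have h := (Subgroup.map_mono (f := M.subtype) (Thompson.le_pPrimeCore hK hcop)).trans
      (Thompson.map_pPrimeCore_normal_le M)
    rw [show Cfsg.pPrimeCore 3 G = ⊥ from hObot, le_bot_iff,
      Subgroup.map_eq_bot_iff_of_injective _ M.subtype_injective] at h
    exact h
  have hnobig : 36 < Nat.card M → ¬ 9 ∣ Nat.card (MulAut M) → False := by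
    intro hbig h9
    let c : T →* MulAut M := (MulAut.conjNormal (H := M)).comp T.subtype
    have hk : c.ker ≠ ⊥ := by
      intro hk
      have h := Subgroup.card_dvd_of_injective c ((MonoidHom.ker_eq_bot_iff c).mp hk)
      rw [hT9] at h
      exact h9 h
    obtain ⟨t, ht, ht1⟩ := (Subgroup.ne_bot_iff_exists_ne_one).mp hk |> fun ⟨t, ht⟩ =>
      (⟨t.1, t.2, fun h => ht (Subtype.ext h)⟩ : ∃ t : T, t ∈ c.ker ∧ t ≠ 1)
    have hMN : M ≤ N := fun x hx => hC _ t.2 (fun h => ht1 (Subtype.ext h)) (by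
      rw [Subgroup.mem_centralizer_singleton_iff]
      have h := congrArg Subtype.val
        (congrArg (fun σ : MulAut M => σ ⟨x, hx⟩) (MonoidHom.mem_ker.mp ht))
      exact (mul_inv_eq_iff_eq_mul.mp (by simpa [c] using h)).symm)
    have := Subgroup.card_le_of_le hMN
    omega
  have hM6 : Nat.card M = 3 ∨ Nat.card M = 6 := by
    have hquot : ∀ K : Subgroup M, K = ⊥ → Nat.card (M ⧸ K) = Nat.card M := fun K hK => by
      subst hK; rw [← Subgroup.index_eq_card, Subgroup.index_bot]
    rcases S3331.result X hX hXC with ⟨K, hK, -, hcop, hq⟩ | ⟨K, hK, -, h2, hq⟩ | hq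
    · have h := hquot K (hsmall K hK hcop)
      rcases hq with hq | ⟨⟨e⟩⟩
      · exact Or.inl (h ▸ hq)
      · right
        rw [← h, Nat.card_congr e.toEquiv, Nat.card_perm, Nat.card_fin]
        rfl
    · exfalso
      have hcop : (Nat.card K).Coprime 3 := by
        obtain ⟨n, hn⟩ := (show IsPGroup 2 K from fun k => ⟨1, Subtype.ext (by
          simpa using h2 k k.2)⟩).exists_card_eq
        rw [hn]
        exact Nat.Coprime.pow_left n (by norm_num)
      have hbot := hsmall K hK hcop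
      subst hbot
      obtain ⟨e⟩ := hq
      obtain ⟨e5⟩ := S0253.result (F := ZMod 5) (ZMod.card 5)
      have e' : M ≃* Matrix.ProjectiveSpecialLinearGroup (Fin 2) (ZMod 5) :=
        (QuotientGroup.quotientBot.symm.trans e).trans e5.symm
      refine hnobig ?_ ?_
      · rw [Nat.card_congr (QuotientGroup.quotientBot.symm.trans e).toEquiv,
          nat_card_alternatingGroup, Nat.card_fin]
        norm_num [Nat.factorial]
      · rw [Nat.card_congr (MulAut.congr e').toEquiv,
          S0813.result (F := ZMod 5) 5 1 le_rfl (ZMod.card 5) 2 le_rfl (fun _ => by norm_num),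
          S0265.result, card_sl_two_five]
        norm_num
    · exfalso
      obtain ⟨e⟩ := hq
      refine hnobig ?_ ?_
      · have hc := LinearGroup.card_SL_eq_center_mul_PSL (n := Fin 2) (R := ZMod 7)
        rw [card_sl_two_seven, LinearGroup.card_center_SL, Fintype.card_fin, Nat.card_zmod,
          ← Nat.card_congr e.toEquiv] at hc
        rw [show Nat.gcd 2 (7 - 1) = 2 from rfl] at hc
        omega
      · rw [Nat.card_congr (MulAut.congr e).toEquiv,
          S0813.result (F := ZMod 7) 7 1 le_rfl (ZMod.card 7) 2 le_rfl (fun _ => by norm_num),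
          S0265.result, card_sl_two_seven]
        norm_num
  -- `B` is normal in `G`
  have hBnormal : ∀ g : G, g * (b : G) * g⁻¹ ∈ B := by
    intro g
    have hgM : g * (b : G) * g⁻¹ ∈ M := (inferInstance : M.Normal).conj_mem _ b.2.2 g
    have h3' : (g * (b : G) * g⁻¹) ^ 3 = 1 := by
      rw [conj_pow, hT3 _ b.2.1, mul_one, mul_inv_cancel]
    have hsq : ∀ x : M, x * x ∈ X := by
      have hi : X.index = 1 ∨ X.index = 2 := by
        have h := Subgroup.card_mul_index X
        rw [hX] at h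
        rcases hM6 with h6 | h6 <;> omega
      intro x
      rcases hi with h | h
      · rw [Subgroup.index_eq_one] at h; rw [h]; trivial
      · exact Subgroup.mul_self_mem_of_index_two h x
    have h4 := X.mul_mem (hsq ⟨_, hgM⟩) (hsq ⟨_, hgM⟩)
    have := Subgroup.mem_subgroupOf.mp h4
    convert this using 1
    show g * (b : G) * g⁻¹ = (g * (b : G) * g⁻¹) * (g * b * g⁻¹) * ((g * b * g⁻¹) * (g * b * g⁻¹))
    calc g * (b : G) * g⁻¹ = g * b * g⁻¹ * (g * (b : G) * g⁻¹) ^ 3 := by rw [h3', mul_one]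
      _ = _ := by simp only [pow_succ, pow_zero, one_mul, mul_assoc]
  refine top_le_iff.mp fun g _ => ?_
  rw [← hN, Subgroup.mem_normalizer_iff]
  have hsub : ∀ x ∈ T, g * x * g⁻¹ ∈ T := by
    intro x hx
    refine hcube _ ?_ (by rw [conj_pow, hT3 x hx, mul_one, mul_inv_cancel])
    refine hC _ b.2.1 hb1 ?_
    rw [Subgroup.mem_centralizer_singleton_iff]
    have hy : g⁻¹ * (b : G) * g ∈ T := by simpa using (hBnormal g⁻¹).1
    have hc := hcomm x hx _ hy
    calc g * x * g⁻¹ * b = g * (x * (g⁻¹ * b * g)) * g⁻¹ := by group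
      _ = g * (g⁻¹ * b * g * x) * g⁻¹ := by rw [hc]
      _ = b * (g * x * g⁻¹) := by group
  have hmap : T.map (MulAut.conj g).toMonoidHom = T := by
    refine Subgroup.eq_of_le_of_card_ge ?_ ?_
    · rintro _ ⟨x, hx, rfl⟩
      simpa using hsub x hx
    · rw [Subgroup.card_map_of_injective (MulAut.conj g).injective]
  intro x
  refine ⟨fun hx => hsub x hx, fun hx => ?_⟩
  rw [← hmap] at hx
  obtain ⟨y, hy, he⟩ := hx
  have : y = x := (MulAut.conj g).injective (by simpa using he)
  exact this ▸ hy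

end Cfsg.Agent.H40.Klein
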