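import Cfsg.Agent.H40.Exceptional.Basic
import Cfsg.Agent.H40.Klein.Iso
import Cfsg.Agent.H40.Klein.Kernel

/-!
An exceptional character supplies the kernel.
-/

set_option autoImplicit false

open scoped ComplexConjugate

namespace Cfsg.Agent.H40.Klein

open Exceptional (Special SuppOn)

universe u

variable {G : Type u} [Group G]

theorem classInner_model {N : Subgroup G} [Fintype N] (ψ : K ≃* N) (f g : K → ℤ) :
    Cfsg.classInner (fun h : N => (f (ψ.symm h) : ℂ)) (fun h : N => (g (ψ.symm h) : ℂ)) =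
      ((∑ k : K, f k * g k : ℤ) : ℂ) / 36 := by
  unfold Cfsg.classInner
  have hcard : Nat.card N = 36 := by
    rw [← Nat.card_congr ψ.toEquiv, Nat.card_eq_fintype_card, card_K]
  rw [hcard, ← Equiv.sum_comp ψ.toEquiv]
  simp only [MulEquiv.toEquiv_eq_coe, MulEquiv.coe_toEquiv, MulEquiv.symm_apply_apply, map_intCast]
  push_cast
  ring

theorem eq_top [Finite G] (f : K →* G) (hfi : Function.Injective f) (T : Subgroup G)
    (hT9 : Nat.card T = 9) (hT3 : ∀ x ∈ T, x ^ 3 = 1)
    (hCT : Subgroup.centralizer (T : Set G) = T)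
    (hTf : ∀ k : K, k ^ 3 = 1 → f k ∈ T) (hTr : T ≤ f.range)
    (hN : Subgroup.normalizer (T : Set G) = f.range)
    (hC : ∀ t ∈ T, t ≠ 1 → Subgroup.centralizer ({t} : Set G) ≤ f.range) : f.range = ⊤ := by
  classical
  haveI := Fintype.ofFinite G
  set N := f.range
  haveI : Fintype N := Fintype.ofFinite N
  let ψ : K ≃* N := MonoidHom.ofInjective hfi
  have hψ : ∀ k, (ψ k : G) = f k := fun k => rfl
  have hcardN : Nat.card N = 36 := by
    rw [← Nat.card_congr ψ.toEquiv, Nat.card_eq_fintype_card, card_K]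
  have hTk : ∀ k : K, f k ∈ T → k ^ 3 = 1 := fun k hk =>
    hfi (by rw [map_pow, map_one]; exact hT3 _ hk)
  have hcomm : ∀ x ∈ T, ∀ y ∈ T, x * y = y * x := by
    intro x hx y hy
    obtain ⟨k, rfl⟩ := hTr hx
    obtain ⟨l, rfl⟩ := hTr hy
    rw [← map_mul, ← map_mul, (cube_comm k l (hTk k hx) (hTk l hy)).1]
  have hcube : ∀ x ∈ N, x ^ 3 = 1 → x ∈ T := by
    rintro _ ⟨k, rfl⟩ h
    exact hTf k (hfi (by rw [map_pow, map_one]; exact h))
  set D : Set G := {x | ∃ k : K, f k = x ∧ k ^ 2 ≠ 1}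
  have hs : Special N D := by
    refine ⟨?_, ?_, ?_⟩
    · rintro _ ⟨k, rfl, -⟩; exact ⟨k, rfl⟩
    · rintro _ ⟨k, rfl, hk⟩ g ⟨l, hl, hl2⟩
      have ht' : f (l ^ 2) ∈ T := hTf _ (sq_cube l)
      have hne : f (l ^ 2) ≠ 1 := fun h => hl2 (hfi (h.trans (map_one f).symm))
      have hsub : ∀ x ∈ T, g * x * g⁻¹ ∈ T := by
        intro x hx
        refine hcube _ (hC _ ht' hne ?_) (by rw [conj_pow, hT3 x hx, mul_one, mul_inv_cancel])
        rw [Subgroup.mem_centralizer_singleton_iff, map_pow, hl, conj_pow, ← map_pow]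
        have hca := hcomm x hx _ (hTf _ (sq_cube k))
        calc g * x * g⁻¹ * (g * f (k ^ 2) * g⁻¹) = g * (x * f (k ^ 2)) * g⁻¹ := by group
          _ = g * (f (k ^ 2) * x) * g⁻¹ := by rw [hca]
          _ = g * f (k ^ 2) * g⁻¹ * (g * x * g⁻¹) := by group
      rw [← hN, Subgroup.mem_normalizer_iff]
      have hmap : T.map (MulAut.conj g).toMonoidHom = T := by
        refine Subgroup.eq_of_le_of_card_ge ?_ ?_
        · rintro _ ⟨x, hx, rfl⟩
          simpa using hsub x hx
        · rw [Subgroup.card_map_of_injective (MulAut.conj g).injective]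
      intro x
      refine ⟨fun hx => hsub x hx, fun hx => ?_⟩
      rw [← hmap] at hx
      obtain ⟨y, hy, he⟩ := hx
      have : y = x := (MulAut.conj g).injective (by simpa using he)
      exact this ▸ hy
    · rintro _ ⟨k, rfl, hk⟩
      exact ⟨k⁻¹, map_inv f k, by rw [inv_pow, ne_eq, inv_eq_one]; exact hk⟩
  have hsupp : ∀ φ : K → ℤ, (∀ k, k ^ 2 = 1 → φ k = 0) →
      SuppOn N D (fun h => (φ (ψ.symm h) : ℂ)) := by
    intro φ hφ h hh
    have : ψ.symm h ^ 2 = 1 := by
      by_contra hc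
      exact hh ⟨ψ.symm h, by rw [← hψ, MulEquiv.apply_symm_apply], hc⟩
    show (φ (ψ.symm h) : ℂ) = 0
    rw [hφ _ this, Int.cast_zero]
  have hga : ∀ i, Cfsg.IsGeneralizedCharacter N (fun h : N => (α i (ψ.symm h) : ℂ)) :=
    fun i => CharCore.isGeneralized_comp (isGeneralized_alpha i) ψ.symm.toMonoidHom
  have hgd : ∀ i, Cfsg.IsGeneralizedCharacter N (fun h : N => (δ i (ψ.symm h) : ℂ)) :=
    fun i => CharCore.isGeneralized_comp (isGeneralized_delta i) ψ.symm.toMonoidHom
  have hnc : ¬ IsConj (f (s 0)) (f (s 1)) := by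
    intro hij
    have hv : ∀ (i : Fin 2) (χ : Cfsg.IrrCharacter G),
        Cfsg.classInner (fun h : N => (δ i (ψ.symm h) : ℂ)) (fun h : N => (χ : G → ℂ) h) =
          (χ : G → ℂ) (f (e i * s (i + 1))) := by
      intro i χ
      unfold Cfsg.classInner
      rw [hcardN, ← Equiv.sum_comp ψ.toEquiv]
      simp only [MulEquiv.toEquiv_eq_coe, MulEquiv.coe_toEquiv, MulEquiv.symm_apply_apply]
      have hpt : ∀ k : K, (δ i k : ℂ) * conj ((χ : G → ℂ) (ψ k)) =
          (δ i k : ℂ) * conj ((χ : G → ℂ) (f (e i * s (i + 1)))) := by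
        intro k
        by_cases hk : δ i k = 0
        · simp [hk]
        · obtain ⟨g, hg⟩ := delta_class i k hk
          rw [hψ, ← hg, map_mul f (g * _), map_mul f g, map_inv, CharCore.irr_isClassFunction χ]
      rw [Finset.sum_congr rfl fun k _ => hpt k, ← Finset.sum_mul,
        ← CharCore.irr_apply_inv χ, ← Int.cast_sum, delta_sum]
      obtain ⟨g, hg⟩ := (c_facts i).2.2
      rw [← map_inv, ← hg, map_mul f (g * _), map_mul f g, map_inv,
        CharCore.irr_isClassFunction χ]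
      push_cast
      ring
    have hreal : ∀ i, IsConj (f (e i * s (i + 1))) (f (e i * s (i + 1)))⁻¹ := fun i => by
      obtain ⟨g, hg⟩ := (c_facts i).2.2
      exact isConj_iff.mpr ⟨f g, by rw [← map_inv, ← map_inv, ← map_mul, ← map_mul, hg]⟩
    have h6 : ∀ i, f (e i * s (i + 1)) ^ 6 = 1 := fun i => by
      rw [← map_pow, (c_facts i).1, map_one]
    refine Exceptional.not_isConj_of_norm_six hs (hgd 0) (hgd 1) (hsupp _ (delta_supp 0))
      (hsupp _ (delta_supp 1)) ?_ ?_ ?_ (h6 0) (h6 1) (hreal 0) (hreal 1) (hv 0) (hv 1) ?_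
    · rw [classInner_model ψ, delta_norm]; norm_num
    · rw [classInner_model ψ, delta_norm]; norm_num
    · rw [classInner_model ψ, delta_norm]; norm_num
    · rw [← map_pow, (c_facts 0).2.1, ← map_pow, (c_facts 1).2.1]; exact hij.symm
  -- one of the reflections is conjugate to no other class of `N`
  obtain ⟨j, hj⟩ : ∃ j : Fin 2, ∀ X : Fin 3, IsConj (f (s j)) (f (inv3 X)) → inv3 X = s j := by
    by_cases h : IsConj (f (s 0)) (f (inv3 2))
    · refine ⟨1, fun X hX => ?_⟩
      fin_cases X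
      · exact absurd hX.symm hnc
      · rfl
      · exact absurd (h.trans hX.symm) hnc
    · refine ⟨0, fun X hX => ?_⟩
      fin_cases X
      · rfl
      · exact absurd hX hnc
      · exact absurd hX h
  have hu0 : ∀ h : N, IsConj (f (s j)) (h : G) → co (j + 1) (ψ.symm h) = 1 := by
    intro h hh
    obtain ⟨k, rfl⟩ := ψ.surjective h
    rw [MulEquiv.symm_apply_apply]
    obtain ⟨c, hc⟩ := isConj_iff.mp hh
    have hk2 : k * k = 1 := hfi (by
      rw [map_mul, map_one, ← hψ, ← hc, conj_mul, ← map_mul, (s_facts j).1, map_one]; group)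
    have hk1 : k ≠ 1 := fun h1 => by
      refine (s_facts j).2.1 (hfi ?_)
      rw [hψ, h1, map_one] at hc
      rw [map_one]
      exact conj_eq_one_iff.mp hc
    obtain ⟨X, g, hg⟩ := invol_class k hk2 hk1
    have hX : inv3 X = s j := hj X (hh.trans (isConj_iff.mpr ⟨(f g)⁻¹, by
      rw [inv_inv, hψ, ← hg, map_mul, map_mul, map_inv]; group⟩))
    rw [← hg, hX]
    exact co_s j g
  obtain ⟨M, hM, huM, hz⟩ := Exceptional.exists_kernel_of_norm_three hs (hga (j + 1))
    (hsupp _ (alpha_supp (j + 1)))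
    (by rw [classInner_model ψ, alpha_norm]; norm_num)
    (by
      have h := classInner_model ψ (α (j + 1)) (fun _ => 1)
      simp only [Int.cast_one, mul_one] at h
      rw [h, alpha_sum]; norm_num)
    (by simp [alpha_one])
    (u := f (s j)) (by rw [← map_mul, (s_facts j).1, map_one])
    (fun h hh => by
      show (α (j + 1) (ψ.symm h) : ℂ) = 0
      rw [(alpha_of_co _ _ _ (hu0 h hh) (hu0 h hh)).1, Int.cast_zero])
    (fun a b ha hb => by
      show (α (j + 1) (ψ.symm (a * b)) : ℂ) = 0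
      rw [map_mul, (alpha_of_co _ _ _ (hu0 a ha) (hu0 b hb)).2, Int.cast_zero])
  haveI := hM
  have hejM : f (e j) ∈ M := by
    have h1 : f (s j * e j * (s j)⁻¹ * (e j)⁻¹) ∈ M := by
      simp only [map_mul, map_inv]
      rw [mul_assoc (f (s j)) (f (e j)), mul_assoc (f (s j))]
      exact mul_mem huM (hM.conj_mem _ (inv_mem huM) _)
    rwa [(s_facts j).2.2] at h1
  have heiM : f (e (j + 1)) ∉ M := by
    intro h
    have := hz (ψ (e (j + 1))) ⟨e (j + 1), rfl, (e_facts _).2.2.1⟩ h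
    simp only [MulEquiv.symm_apply_apply, (e_facts _).2.2.2] at this
    norm_num at this
  have hejT : ∀ i, f (e i) ∈ T := fun i => hTf _ (e_facts i).1
  have hBcard : Nat.card (T ⊓ M : Subgroup G) = 3 := by
    have hd : Nat.card (T ⊓ M : Subgroup G) ∣ 3 ^ 2 := by
      rw [show (3 : ℕ) ^ 2 = Nat.card T by rw [hT9]; norm_num]
      exact Subgroup.card_dvd_of_le inf_le_left
    obtain ⟨k, hk, hk'⟩ := (Nat.dvd_prime_pow Nat.prime_three).mp hd
    interval_cases k
    · exfalso
      have hbot := Subgroup.eq_bot_of_card_eq _ (show Nat.card (T ⊓ M : Subgroup G) = 1 by simpa using hk')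
      have : f (e j) ∈ (⊥ : Subgroup G) := hbot ▸ ⟨hejT j, hejM⟩
      exact (e_facts j).2.1 (hfi ((Subgroup.mem_bot.mp this).trans (map_one f).symm))
    · simpa using hk'
    · exfalso
      have : T ⊓ M = T := Subgroup.eq_of_le_of_card_ge inf_le_left (by rw [hk', hT9]; norm_num)
      have h2 : f (e (j + 1)) ∈ T ⊓ M := by rw [this]; exact hejT _
      exact heiM h2.2
  refine normal_of_kernel T hT9 hT3 hcomm hCT N hN hcardN hcube hC M hBcard ?_
  intro x hxM hxN hxc
  obtain ⟨k, rfl⟩ := hxN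
  rw [← map_pow, ← map_one f]
  congr 1
  have hk1 : k * e j * k⁻¹ = e j := hfi (by
    rw [map_mul, map_mul, map_inv, hxc _ ⟨hejT j, hejM⟩, mul_inv_cancel_right])
  have hcase : j = (j + 1) + 1 := (by decide : ∀ i : Fin 2, i = i + 1 + 1) j
  refine cent_quot (j + 1) k (by rw [← hcase]; exact hk1) ?_
  have hmem : f (k * e (j + 1) * k⁻¹ * (e (j + 1))⁻¹) ∈ T ⊓ M := by
    constructor
    · rw [map_mul, map_mul, map_mul, map_inv, map_inv]
      refine T.mul_mem ?_ (T.inv_mem (hejT _))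
      exact (Subgroup.mem_normalizer_iff.mp (hN.symm ▸ (⟨k, rfl⟩ : f k ∈ N) :
        f k ∈ Subgroup.normalizer (T : Set G)) _).mp (hejT _)
    · rw [map_mul, map_mul, map_mul, map_inv, map_inv, mul_assoc (f k) (f (e (j + 1))),
        mul_assoc (f k)]
      exact mul_mem hxM (hM.conj_mem _ (inv_mem hxM) _)
  -- `T ⊓ M` consists of the powers of `e j`
  have hzp : Subgroup.zpowers (f (e j)) = T ⊓ M := by
    refine Subgroup.eq_of_le_of_card_ge (Subgroup.zpowers_le.mpr ⟨hejT j, hejM⟩) ?_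
    rw [Nat.card_zpowers, hBcard, orderOf_eq_prime (by rw [← map_pow, (e_facts j).1, map_one])
      (fun h => (e_facts j).2.1 (hfi (h.trans (map_one f).symm)))]
  rw [← hzp, Subgroup.mem_zpowers_iff] at hmem
  obtain ⟨n, hn⟩ := hmem
  refine ⟨⟨(n % 3).toNat, by omega⟩, hfi ?_⟩
  rw [← hn, ← hcase, map_pow, ← zpow_natCast (f (e j))]
  show f (e j) ^ n = f (e j) ^ (((n % 3).toNat : ℕ) : ℤ)
  rw [Int.toNat_of_nonneg (Int.emod_nonneg n (by norm_num))]
  exact zpow_eq_zpow_emod' n (by rw [← map_pow, (e_facts j).1, map_one])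

end Cfsg.Agent.H40.Klein
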