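import Cfsg.Agent.H40.Exceptional.CubeChars

/-!
`S₃ × S₃` with the functions used on it.
-/

set_option autoImplicit false

namespace Cfsg.Agent.H40.Klein

open DihedralGroup Exceptional.Cube

abbrev K := S × S

def co (i : Fin 2) (k : K) : S := if i = 0 then k.1 else k.2

/-- The three-cycle of coordinate `i`. -/
def e : Fin 2 → K := ![(r 1, 1), (1, r 1)]

/-- The reflection of coordinate `i`. -/
def s : Fin 2 → K := ![(sr 0, 1), (1, sr 0)]

/-- The three classes of involutions. -/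
def inv3 : Fin 3 → K := ![(sr 0, 1), (1, sr 0), (sr 0, sr 0)]

def α (i : Fin 2) (k : K) : ℤ := a (co i k)
def δ (i : Fin 2) (k : K) : ℤ := a (co i k) * (1 - sg (co (i + 1) k))

theorem card_K : Fintype.card K = 36 := by decide +kernel
theorem alpha_norm : ∀ i, ∑ k : K, α i k * α i k = 108 := by decide +kernel
theorem alpha_sum : ∀ i, ∑ k : K, α i k = 36 := by decide +kernel
theorem alpha_one : ∀ i, α i 1 = 0 := by decide +kernel
theorem alpha_supp : ∀ i (k : K), k ^ 2 = 1 → α i k = 0 := by decide +kernel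
theorem delta_supp : ∀ i (k : K), k ^ 2 = 1 → δ i k = 0 := by decide +kernel
theorem delta_norm : ∀ i j, ∑ k : K, δ i k * δ j k = if i = j then 216 else 0 := by decide +kernel
theorem delta_sum : ∀ i, ∑ k : K, δ i k = 36 := by decide +kernel
theorem delta_class : ∀ i (k : K), δ i k ≠ 0 →
    ∃ g : K, g * (e i * s (i + 1)) * g⁻¹ = k := by decide +kernel
theorem c_facts : ∀ i, (e i * s (i + 1)) ^ 6 = 1 ∧ (e i * s (i + 1)) ^ 3 = s (i + 1) ∧
    ∃ g : K, g * (e i * s (i + 1)) * g⁻¹ = (e i * s (i + 1))⁻¹ := by decide +kernel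
theorem invol_class : ∀ k : K, k * k = 1 → k ≠ 1 →
    ∃ X : Fin 3, ∃ g : K, g * inv3 X * g⁻¹ = k := by decide +kernel
theorem s_facts : ∀ i, s i * s i = 1 ∧ s i ≠ 1 ∧ s i * e i * (s i)⁻¹ * (e i)⁻¹ = e i := by
  decide +kernel
theorem co_s : ∀ i (g : K), co (i + 1) (g * s i * g⁻¹) = 1 := by decide +kernel
theorem alpha_of_co : ∀ i (k l : K), co i k = 1 → co i l = 1 → α i k = 0 ∧ α i (k * l) = 0 := by
  decide +kernel
theorem e_facts : ∀ i, e i ^ 3 = 1 ∧ e i ≠ 1 ∧ e i ^ 2 ≠ 1 ∧ α i (e i) = 3 := by decide +kernel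
theorem cube_comm : ∀ k l : K, k ^ 3 = 1 → l ^ 3 = 1 → k * l = l * k ∧ (k * l) ^ 3 = 1 := by
  decide +kernel
theorem sq_cube : ∀ k : K, (k ^ 2) ^ 3 = 1 := by decide +kernel
theorem cube_span : ∀ k : K, k ^ 3 = 1 → ∃ m n : Fin 3, k = e 0 ^ m.val * e 1 ^ n.val := by
  decide +kernel
theorem cent_quot : ∀ i (k : K), k * e (i + 1) * k⁻¹ = e (i + 1) →
    (∃ n : Fin 3, k * e i * k⁻¹ * (e i)⁻¹ = e (i + 1) ^ n.val) → k ^ 3 = 1 := by decide +kernel

theorem isGeneralized_alpha (i : Fin 2) :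
    Cfsg.IsGeneralizedCharacter K (fun k => (α i k : ℂ)) := by
  let c : K →* Equiv.Perm (Fin 3) := perm.comp
    (if i = 0 then MonoidHom.fst S S else MonoidHom.snd S S)
  have hc : ∀ k, c k = perm (co i k) := fun k => by
    by_cases h : i = 0 <;> simp [c, co, h]
  convert CharCore.isGeneralized_sub
    (CharCore.isGeneralized_add
      (CharCore.isGeneralized_intCast_smul CharCore.isGeneralized_one 2)
      (CharCore.isGeneralized_comp isGeneralized_sign c))
    (CharCore.isGeneralized_comp isGeneralized_fix c) using 1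
  funext k
  simp only [α, a_eq, Pi.sub_apply, Pi.add_apply, Pi.smul_apply, Pi.one_apply, smul_eq_mul, mul_one,
    hc]
  push_cast
  rfl

theorem isGeneralized_delta (i : Fin 2) :
    Cfsg.IsGeneralizedCharacter K (fun k => (δ i k : ℂ)) := by
  let c : K →* Equiv.Perm (Fin 3) := perm.comp
    (if i + 1 = 0 then MonoidHom.fst S S else MonoidHom.snd S S)
  have hc : ∀ k, c k = perm (co (i + 1) k) := fun k => by
    by_cases h : i + 1 = 0 <;> simp [c, co, h]
  convert CharCore.isGeneralized_mul (isGeneralized_alpha i)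
    (CharCore.isGeneralized_sub CharCore.isGeneralized_one
      (CharCore.isGeneralized_comp isGeneralized_sign c)) using 1
  funext k
  simp [δ, α, sg_eq, hc]

end Cfsg.Agent.H40.Klein
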